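import Mathlib

/-!
# Artin–Schreier normal forms over discrete valuation rings with a perfect part in the residue field
-/

set_option autoImplicit false
universe u

open IsLocalRing

namespace Groth.Agent.EtRamLib.AS.Data

/-- the telescoping Artin–Schreier sum -/
theorem telescope {L : Type u} [CommRing L] (p : ℕ) [Fact p.Prime] [CharP L p] (y : L) (m : ℕ) :
    (∑ k ∈ Finset.range m, y ^ p ^ k) ^ p - ∑ k ∈ Finset.range m, y ^ p ^ k = y ^ p ^ m - y := by
  rw [sum_pow_char, ← Finset.sum_sub_distrib]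
  have : ∀ k, (y ^ p ^ k) ^ p = y ^ p ^ (k + 1) := fun k ↦ by rw [← pow_mul, ← pow_succ]
  simp only [this]
  rw [Finset.sum_range_sub (fun k ↦ y ^ p ^ k), pow_zero, pow_one]

variable {A B K L : Type u} [CommRing A] [IsDomain A] [IsDiscreteValuationRing A] [CommRing B] [IsDomain B]
  [IsDiscreteValuationRing B] [Algebra A B] [IsLocalHom (algebraMap A B)] [Field K] [Field L] [Algebra A K]
  [IsFractionRing A K] [Algebra B L] [IsFractionRing B L] [Algebra K L] [Algebra A L] [IsScalarTower A K L]
  [IsScalarTower A B L]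

/-- every element is an integral element over a power of a uniformizer -/
theorem exists_div (π : A) (hπ : maximalIdeal A = Ideal.span {π}) (ξ : K) :
    ∃ (n : ℕ) (r : A), ξ = algebraMap A K r / algebraMap A K π ^ n := by
  obtain ⟨x, y, hy, rfl⟩ := IsFractionRing.div_surjective A ξ
  obtain ⟨n, u, rfl⟩ := IsDiscreteValuationRing.eq_unit_mul_pow_irreducible (nonZeroDivisors.ne_zero hy)
    ((IsDiscreteValuationRing.irreducible_iff_uniformizer π).2 hπ)
  refine ⟨n, x * ↑u⁻¹, ?_⟩
  rw [map_mul, map_mul, map_units_inv, map_pow, ← div_div, div_eq_mul_inv (algebraMap A K x)]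

theorem exists_pow_root (p : ℕ) (hperf : ∀ x : ResidueField A, ∃ y, y ^ p = x) (M : ℕ) (x : ResidueField A) :
    ∃ y, y ^ p ^ M = x := by
  induction M with
  | zero => exact ⟨x, by rw [pow_zero, pow_one]⟩
  | succ M ih =>
    obtain ⟨y, rfl⟩ := ih
    obtain ⟨z, rfl⟩ := hperf y
    exact ⟨z, by rw [← pow_mul, ← pow_succ']⟩

/-- decomposition in the large ring -/
theorem decompose (p : ℕ) [hp : Fact p.Prime] [CharP L p] (π : A)
    (hπB : maximalIdeal B = Ideal.span {algebraMap A B π})
    (hk : ∀ x : ResidueField B, (∀ n : ℕ, ∃ y : ResidueField B, y ^ (p ^ n) = x) ↔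
      x ∈ Set.range (algebraMap (ResidueField A) (ResidueField B))) (ξ : L) :
    ∃ (S : Finset ℕ) (m : ℕ → ℕ) (s : ℕ → B) (a : K) (b : B) (g : L),
      0 ∉ S ∧ (∀ i ∈ S, (∀ r : B, residue B (s i) ≠ residue B r ^ p) ∧ (p ∣ i → m i = 0)) ∧
      ξ = algebraMap K L a + ∑ i ∈ S, algebraMap B L (s i) ^ p ^ m i / algebraMap A L π ^ i +
        algebraMap B L b + (g ^ p - g) := by
  classical
  obtain ⟨n, r, hr⟩ := exists_div (K := L) (algebraMap A B π) hπB ξ
  rw [← IsScalarTower.algebraMap_apply] at hr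
  have hP : algebraMap A L π ≠ 0 := by
    rw [IsScalarTower.algebraMap_apply A B L]
    exact (map_ne_zero_iff _ (IsFractionRing.injective B L)).2
      ((IsDiscreteValuationRing.irreducible_iff_uniformizer _).2 hπB).ne_zero
  suffices H : ∀ n, ∀ (ξ : L) (r : B), ξ = algebraMap B L r / algebraMap A L π ^ n →
      ∃ (S : Finset ℕ) (m : ℕ → ℕ) (s : ℕ → B) (a : K) (b : B) (g : L),
        (∀ i ∈ S, 0 < i ∧ i ≤ n ∧ (∀ r : B, residue B (s i) ≠ residue B r ^ p) ∧ (p ∣ i → m i = 0)) ∧
        ξ = algebraMap K L a + ∑ i ∈ S, algebraMap B L (s i) ^ p ^ m i / algebraMap A L π ^ i +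
          algebraMap B L b + (g ^ p - g) by
    obtain ⟨S, m, s, a, b, g, hS, he⟩ := H n ξ r hr
    exact ⟨S, m, s, a, b, g, fun h ↦ lt_irrefl 0 (hS 0 h).1, fun i hi ↦ ⟨(hS i hi).2.2.1, (hS i hi).2.2.2⟩, he⟩
  intro n
  induction n using Nat.strong_induction_on with
  | _ n ih =>
    intro ξ r hξ
    rcases Nat.eq_zero_or_pos n with rfl | hn
    · exact ⟨∅, 0, 0, 0, r, 0, by simp, by simp [hξ, hp.out.ne_zero]⟩
    have lower : ∀ c : B, residue B r = residue B c → ∃ d : B,
        algebraMap B L r / algebraMap A L π ^ n =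
          algebraMap B L c / algebraMap A L π ^ n + algebraMap B L d / algebraMap A L π ^ (n - 1) := by
      intro c hc
      obtain ⟨d, hd⟩ : algebraMap A B π ∣ r - c := by
        rw [← Ideal.mem_span_singleton, ← hπB, ← residue_eq_zero_iff, map_sub, hc, sub_self]
      refine ⟨d, ?_⟩
      obtain ⟨k, rfl⟩ : ∃ k, n = k + 1 := ⟨n - 1, by omega⟩
      rw [eq_add_of_sub_eq' hd, map_add, map_mul, ← IsScalarTower.algebraMap_apply, add_div, Nat.add_sub_cancel,
        pow_succ]
      congr 1
      rw [mul_comm (algebraMap A L π), mul_div_mul_right _ _ hP]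
    by_cases hrange : residue B r ∈ Set.range (algebraMap (ResidueField A) (ResidueField B))
    · obtain ⟨α, hα⟩ := hrange
      obtain ⟨α, rfl⟩ := IsLocalRing.residue_surjective α
      obtain ⟨d, hd⟩ := lower (algebraMap A B α) hα.symm
      obtain ⟨S, m, s, a, b, g, hS, he⟩ := ih (n - 1) (by omega) _ d rfl
      refine ⟨S, m, s, algebraMap A K α / algebraMap A K π ^ n + a, b, g,
        fun i hi ↦ ⟨(hS i hi).1, by have := (hS i hi).2.1; omega, (hS i hi).2.2⟩, ?_⟩
      rw [hξ, hd, he, map_add, map_div₀, map_pow, ← IsScalarTower.algebraMap_apply, ← IsScalarTower.algebraMap_apply,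
        ← IsScalarTower.algebraMap_apply]
      ring
    obtain ⟨M, hM, hM'⟩ : ∃ M, (∃ y : ResidueField B, y ^ p ^ M = residue B r) ∧
        ¬ ∃ y : ResidueField B, y ^ p ^ (M + 1) = residue B r := by
      by_contra hno
      push Not at hno
      refine hrange ((hk _).1 fun k ↦ ?_)
      induction k with
      | zero => exact ⟨residue B r, by rw [pow_zero, pow_one]⟩
      | succ k ihk => exact hno k ihk
    by_cases hred : p ∣ n ∧ M ≠ 0
    · obtain ⟨⟨k, rfl⟩, hM0⟩ := hred
      obtain ⟨y₀, hy⟩ := hM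
      obtain ⟨y, hy₁⟩ := IsLocalRing.residue_surjective (y₀ ^ p ^ (M - 1))
      have hk0 : 0 < k := pos_of_mul_pos_right hn (Nat.zero_le _)
      have hlt : k < p * k := lt_mul_of_one_lt_left hk0 hp.out.one_lt
      obtain ⟨d, hd⟩ := lower (y ^ p) (by
        rw [map_pow, ← hy]
        have : M = M - 1 + 1 := by omega
        rw [hy₁, ← pow_mul, ← pow_succ, ← this])
      obtain ⟨S, m, s, a, b, g, hS, he⟩ := ih (p * k - 1) (by omega) _
        (d + y * algebraMap A B π ^ (p * k - 1 - k)) rfl
      set η := algebraMap B L y / algebraMap A L π ^ k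
      refine ⟨S, m, s, a, b, g + η, fun i hi ↦ ⟨(hS i hi).1, by have := (hS i hi).2.1; omega, (hS i hi).2.2⟩, ?_⟩
      have h1 : algebraMap B L (d + y * algebraMap A B π ^ (p * k - 1 - k)) / algebraMap A L π ^ (p * k - 1) =
          algebraMap B L d / algebraMap A L π ^ (p * k - 1) + η := by
        rw [map_add, add_div, map_mul, map_pow, ← IsScalarTower.algebraMap_apply]
        congr 1
        have : algebraMap A L π ^ (p * k - 1) = algebraMap A L π ^ k * algebraMap A L π ^ (p * k - 1 - k) := by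
          rw [← pow_add]; congr 1; omega
        rw [this, mul_div_mul_right _ _ (pow_ne_zero _ hP)]
      have h2 : algebraMap B L (y ^ p) / algebraMap A L π ^ (p * k) = η ^ p := by
        rw [div_pow, map_pow, ← pow_mul, mul_comm k p]
      rw [hξ, hd, h2, add_pow_char]
      rw [h1] at he
      linear_combination he
    obtain ⟨y, hy⟩ := hM
    obtain ⟨y, rfl⟩ := IsLocalRing.residue_surjective y
    obtain ⟨d, hd⟩ := lower (y ^ p ^ M) (by rw [map_pow, hy])
    obtain ⟨S, m, s, a, b, g, hS, he⟩ := ih (n - 1) (by omega) _ d rfl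
    have hnS : n ∉ S := fun h ↦ by have := (hS n h).2.1; omega
    refine ⟨insert n S, Function.update m n M, Function.update s n y, a, b, g, fun i hi ↦ ?_, ?_⟩
    · rcases Finset.mem_insert.1 hi with rfl | hi
      · rw [Function.update_self, Function.update_self]
        refine ⟨hn, le_rfl, fun r' hr' ↦ hM' ⟨residue B r', ?_⟩, fun hdvd ↦ ?_⟩
        · rw [pow_succ', pow_mul, ← hr', hy]
        · by_contra hM0
          exact hred ⟨hdvd, hM0⟩
      · have hne : i ≠ n := fun h ↦ hnS (h ▸ hi)
        rw [Function.update_of_ne hne, Function.update_of_ne hne]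
        exact ⟨(hS i hi).1, by have := (hS i hi).2.1; omega, (hS i hi).2.2⟩
    · have hsum : ∑ i ∈ S, algebraMap B L (Function.update s n y i) ^ p ^ Function.update m n M i / algebraMap A L π ^ i =
          ∑ i ∈ S, algebraMap B L (s i) ^ p ^ m i / algebraMap A L π ^ i :=
        Finset.sum_congr rfl fun i hi ↦ by
          have hne : i ≠ n := by rintro rfl; exact hnS hi
          rw [Function.update_of_ne hne, Function.update_of_ne hne]
      rw [hξ, hd, he, Finset.sum_insert hnS, hsum, Function.update_self, Function.update_self, map_pow]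
      ring

/-- decomposition in the small ring -/
theorem decompose₂ (p : ℕ) [hp : Fact p.Prime] [CharP K p] (π : A) (hπ : maximalIdeal A = Ideal.span {π})
    (hperf : ∀ x : ResidueField A, ∃ y, y ^ p = x) (M : ℕ) (ξ : K) :
    ∃ (S : Finset ℕ) (b : ℕ → A) (a : A) (g : K), (∀ i ∈ S, ¬ p ∣ i ∧ IsUnit (b i)) ∧
      ξ = ∑ i ∈ S, algebraMap A K (b i) ^ p ^ M / algebraMap A K π ^ i + algebraMap A K a + (g ^ p - g) := by
  classical
  obtain ⟨n, r, hr⟩ := exists_div π hπ ξ
  have hP : algebraMap A K π ≠ 0 := (map_ne_zero_iff _ (IsFractionRing.injective A K)).2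
      ((IsDiscreteValuationRing.irreducible_iff_uniformizer _).2 hπ).ne_zero
  suffices H : ∀ n, ∀ (ξ : K) (r : A), ξ = algebraMap A K r / algebraMap A K π ^ n →
      ∃ (S : Finset ℕ) (b : ℕ → A) (a : A) (g : K), (∀ i ∈ S, i ≤ n ∧ ¬ p ∣ i ∧ IsUnit (b i)) ∧
      ξ = ∑ i ∈ S, algebraMap A K (b i) ^ p ^ M / algebraMap A K π ^ i + algebraMap A K a + (g ^ p - g) by
    obtain ⟨S, b, a, g, hS, he⟩ := H n ξ r hr
    exact ⟨S, b, a, g, fun i hi ↦ (hS i hi).2, he⟩
  intro n
  induction n using Nat.strong_induction_on with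
  | _ n ih =>
    intro ξ r hξ
    rcases Nat.eq_zero_or_pos n with rfl | hn
    · exact ⟨∅, 0, r, 0, by simp, by simp [hξ, hp.out.ne_zero]⟩
    have lower : ∀ c : A, residue A r = residue A c → ∃ d : A,
        algebraMap A K r / algebraMap A K π ^ n =
          algebraMap A K c / algebraMap A K π ^ n + algebraMap A K d / algebraMap A K π ^ (n - 1) := by
      intro c hc
      obtain ⟨d, hd⟩ : π ∣ r - c := by
        rw [← Ideal.mem_span_singleton, ← hπ, ← residue_eq_zero_iff, map_sub, hc, sub_self]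
      refine ⟨d, ?_⟩
      obtain ⟨k, rfl⟩ : ∃ k, n = k + 1 := ⟨n - 1, by omega⟩
      rw [eq_add_of_sub_eq' hd, map_add, map_mul, add_div, Nat.add_sub_cancel, pow_succ]
      congr 1
      rw [mul_comm (algebraMap A K π), mul_div_mul_right _ _ hP]
    by_cases hzero : residue A r = 0
    · obtain ⟨d, hd⟩ := lower 0 (by rw [hzero, map_zero])
      obtain ⟨S, b, a, g, hS, he⟩ := ih (n - 1) (by omega) _ d rfl
      refine ⟨S, b, a, g, fun i hi ↦ ⟨by have := (hS i hi).1; omega, (hS i hi).2⟩, ?_⟩
      rw [hξ, hd, map_zero, zero_div, zero_add, he]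
    by_cases hdvd : p ∣ n
    · obtain ⟨k, rfl⟩ := hdvd
      obtain ⟨y, hy⟩ := hperf (residue A r)
      obtain ⟨y, rfl⟩ := IsLocalRing.residue_surjective y
      have hk0 : 0 < k := pos_of_mul_pos_right hn (Nat.zero_le _)
      have hlt : k < p * k := lt_mul_of_one_lt_left hk0 hp.out.one_lt
      obtain ⟨d, hd⟩ := lower (y ^ p) (by rw [map_pow, hy])
      obtain ⟨S, b, a, g, hS, he⟩ := ih (p * k - 1) (by omega) _ (d + y * π ^ (p * k - 1 - k)) rfl
      set η := algebraMap A K y / algebraMap A K π ^ k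
      refine ⟨S, b, a, g + η, fun i hi ↦ ⟨by have := (hS i hi).1; omega, (hS i hi).2⟩, ?_⟩
      have h1 : algebraMap A K (d + y * π ^ (p * k - 1 - k)) / algebraMap A K π ^ (p * k - 1) =
          algebraMap A K d / algebraMap A K π ^ (p * k - 1) + η := by
        rw [map_add, add_div, map_mul, map_pow]
        congr 1
        have : algebraMap A K π ^ (p * k - 1) = algebraMap A K π ^ k * algebraMap A K π ^ (p * k - 1 - k) := by
          rw [← pow_add]; congr 1; omega
        rw [this, mul_div_mul_right _ _ (pow_ne_zero _ hP)]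
      have h2 : algebraMap A K (y ^ p) / algebraMap A K π ^ (p * k) = η ^ p := by
        rw [div_pow, map_pow, ← pow_mul, mul_comm k p]
      rw [hξ, hd, h2, add_pow_char]
      rw [h1] at he
      linear_combination he
    obtain ⟨y, hy⟩ := exists_pow_root p hperf M (residue A r)
    obtain ⟨y, rfl⟩ := IsLocalRing.residue_surjective y
    obtain ⟨d, hd⟩ := lower (y ^ p ^ M) (by rw [map_pow, hy])
    obtain ⟨S, b, a, g, hS, he⟩ := ih (n - 1) (by omega) _ d rfl
    have hnS : n ∉ S := fun h ↦ by have := (hS n h).1; omega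
    refine ⟨insert n S, Function.update b n y, a, g, fun i hi ↦ ?_, ?_⟩
    · rcases Finset.mem_insert.1 hi with rfl | hi
      · rw [Function.update_self]
        refine ⟨le_rfl, hdvd, ?_⟩
        rw [← residue_ne_zero_iff_isUnit]
        intro h0
        rw [h0, zero_pow (pow_ne_zero _ hp.out.ne_zero)] at hy
        exact hzero hy.symm
      · have hne : i ≠ n := fun h ↦ hnS (h ▸ hi)
        rw [Function.update_of_ne hne]
        exact ⟨by have := (hS i hi).1; omega, (hS i hi).2⟩
    · have hsum : ∑ i ∈ S, algebraMap A K (Function.update b n y i) ^ p ^ M / algebraMap A K π ^ i =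
          ∑ i ∈ S, algebraMap A K (b i) ^ p ^ M / algebraMap A K π ^ i :=
        Finset.sum_congr rfl fun i hi ↦ by
          have hne : i ≠ n := by rintro rfl; exact hnS hi
          rw [Function.update_of_ne hne]
      rw [hξ, hd, he, Finset.sum_insert hnS, hsum, Function.update_self, map_pow]
      ring

end Groth.Agent.EtRamLib.AS.Data
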