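import Mathlib

/-!
# Artin–Schreier generators of cyclic extensions of degree `p`
-/

set_option autoImplicit false
universe u

open IntermediateField

namespace Groth.Agent.EtRamLib.AS.Gen

theorem exists_generator {L M : Type u} [Field L] [Field M] [Algebra L M] [IsGalois L M] (p : ℕ) [hp : Fact p.Prime]
    [CharP L p] (hdeg : Module.finrank L M = p) :
    ∃ (z : M) (ξ : L), z ^ p - z = algebraMap L M ξ ∧ L⟮z⟯ = ⊤ := by
  classical
  haveI : FiniteDimensional L M := Module.finite_of_finrank_pos (hdeg ▸ hp.out.pos)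
  haveI : CharP M p := charP_of_injective_algebraMap (algebraMap L M).injective p
  have hcard : Nat.card (M ≃ₐ[L] M) = p := by rw [IsGalois.card_aut_eq_finrank, hdeg]
  haveI : IsCyclic (M ≃ₐ[L] M) := isCyclic_of_prime_card hcard
  obtain ⟨σ, hσ⟩ := IsCyclic.exists_generator (α := M ≃ₐ[L] M)
  have hord : orderOf σ = p := by rw [orderOf_eq_card_of_forall_mem_zpowers hσ, hcard]
  have hinj : Function.Injective fun j : ZMod p ↦ σ ^ j.val := fun i j h ↦ by
    refine ZMod.val_injective p (pow_injOn_Iio_orderOf ?_ ?_ h)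
    · rw [Set.mem_Iio, hord]; exact i.val_lt
    · rw [Set.mem_Iio, hord]; exact j.val_lt
  have hbij : Function.Bijective fun j : ZMod p ↦ σ ^ j.val :=
    (Nat.bijective_iff_injective_and_card _).2 ⟨hinj, by rw [Nat.card_zmod, hcard]⟩
  obtain ⟨θ, hθ⟩ := Algebra.trace_surjective L M 1
  have htr : ∑ j : ZMod p, (σ ^ j.val) θ = 1 := by
    have h1 := trace_eq_sum_automorphisms (K := L) θ
    rw [hθ, map_one] at h1
    rw [h1]
    exact Fintype.sum_bijective _ hbij _ _ fun _ ↦ rfl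
  have hstep : ∀ j : ZMod p, σ ((σ ^ j.val) θ) = (σ ^ (j + 1).val) θ := by
    intro j
    have hm : (σ ^ ((j.val + 1) % p)) = σ ^ (j.val + 1) := by
      conv_rhs => rw [← pow_mod_orderOf, hord]
    rw [ZMod.val_add, ZMod.val_one, hm, pow_succ', AlgEquiv.mul_apply]
  set c : ZMod p →+* M := ZMod.castHom dvd_rfl M
  have hcfix : ∀ j, σ (c j) = c j := fun j ↦ by
    obtain ⟨n, rfl⟩ := ZMod.natCast_zmod_surjective j
    rw [map_natCast, map_natCast]
  set z : M := -∑ j : ZMod p, c j * (σ ^ j.val) θ with hz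
  have hσz : σ z = z + 1 := by
    have h1 : σ (∑ j : ZMod p, c j * (σ ^ j.val) θ) = ∑ j : ZMod p, (c j * (σ ^ j.val) θ - (σ ^ j.val) θ) := by
      rw [map_sum, ← Equiv.sum_comp (Equiv.addRight (1 : ZMod p))
        fun j ↦ c j * (σ ^ j.val) θ - (σ ^ j.val) θ]
      refine Finset.sum_congr rfl fun j _ ↦ ?_
      rw [map_mul, hcfix, hstep, Equiv.coe_addRight, map_add, map_one]
      ring
    rw [Finset.sum_sub_distrib, htr] at h1
    rw [hz, map_neg, h1]
    ring
  have hfix : ∀ y : M, σ y = y → y ∈ Set.range (algebraMap L M) := fun y hy ↦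
    (IsGalois.mem_range_algebraMap_iff_fixed y).2 fun τ ↦ by
      obtain ⟨j, rfl⟩ := hbij.2 τ
      change (σ ^ j.val) y = y
      induction j.val with
      | zero => rfl
      | succ k ih => rw [pow_succ, AlgEquiv.mul_apply, hy, ih]
  obtain ⟨ξ, hξ⟩ := hfix (z ^ p - z) (by
    rw [map_sub, map_pow, hσz, add_pow_char, one_pow]; ring)
  refine ⟨z, ξ, hξ.symm, ?_⟩
  haveI := isSimpleOrder_of_finrank_prime L M (hdeg.symm ▸ hp.out)
  refine (eq_bot_or_eq_top _).resolve_left fun h ↦ ?_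
  obtain ⟨l, hl⟩ := mem_bot.1 (h ▸ mem_adjoin_simple_self L z)
  rw [← hl, AlgEquiv.commutes] at hσz
  exact one_ne_zero (left_eq_add.1 hσz)

end Groth.Agent.EtRamLib.AS.Gen
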