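import Mathlib
import Groth.Agent.EtRamLib.DegPRoot

/-!
# Totally ramified extensions: roots of `X ^ q + π ^ (j + 1) * X - π` and towers
-/

set_option autoImplicit false
universe u

open Polynomial IntermediateField
open scoped Classical

namespace Groth.Agent.EtRamLib.AS.RootTR

open Groth.Agent.S7158

variable {A K F : Type u} [CommRing A] [IsDomain A] [IsDiscreteValuationRing A] [Field K] [Algebra A K]
  [IsFractionRing A K] [Field F] [Algebra K F]

/-- the totally ramified extension generated by a `q`-th root of a uniformizer, up to high order -/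
theorem root_tr (π : A) (hπ : IsLocalRing.maximalIdeal A = Ideal.span {π}) (q : ℕ) (hq : 1 < q) (j : ℕ) (x : F)
    (hx : x ^ q = algebraMap K F (algebraMap A K π) - algebraMap K F (algebraMap A K π) ^ (j + 1) * x)
    (hgen : K⟮x⟯ = ⊤) :
    EtRam.IsTotallyRamified A ((algebraMap K F).comp (algebraMap A K)) ∧
      ∀ (V : ValuationSubring F), EtRam.Dominates A ((algebraMap K F).comp (algebraMap A K)) V →
        ∀ y : V, V.valuation (y : F) < 1 → V.valuation (y : F) ≤ V.valuation x := by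
  set P := algebraMap A K π
  have hq0 : 0 < q := by omega
  have hcoef : ∀ y : F, ∃ c : Fin q → K, y = ∑ i : Fin q, algebraMap K F (c i) * x ^ (i : ℕ) := by
    refine exists_coeffs q x (X ^ q + (C (P ^ (j + 1)) * X - C P)) (monic_X_pow_add ?_) ?_ ?_ hgen hq0
    · refine (degree_sub_le _ _).trans_lt (max_lt ((degree_C_mul_X_le _).trans_lt ?_) (degree_C_le.trans_lt ?_))
      · exact_mod_cast hq
      · exact_mod_cast hq0
    · rw [natDegree_add_eq_left_of_natDegree_lt, natDegree_X_pow]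
      rw [natDegree_X_pow]
      refine (natDegree_sub_le _ _).trans_lt (max_lt ((natDegree_C_mul_le _ _).trans_lt (natDegree_X_le.trans_lt hq)) ?_)
      rw [natDegree_C]; exact hq0
    · simp only [map_add, map_sub, map_mul, map_pow, aeval_X, aeval_C]
      rw [hx]; ring
  have hint : ∀ (V : ValuationSubring F), EtRam.Dominates A ((algebraMap K F).comp (algebraMap A K)) V →
      ∀ c : Fin q → K, (V.valuation (∑ i : Fin q, algebraMap K F (c i) * x ^ (i : ℕ)) ≤ 1 ↔
        ∀ i, ∃ a : A, algebraMap A K a = c i) := by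
    intro V hV c
    obtain ⟨hx1, hxq⟩ := DegPRoot.val_root hπ hV q hq j x hx
    refine ⟨fun hle i ↦ ?_, fun h ↦ Valuation.map_sum_le _ fun i _ ↦ ?_⟩
    · rcases eq_or_ne c 0 with rfl | hc
      · exact ⟨0, by simp⟩
      obtain ⟨k, m, -, hm, -, hall⟩ := DegPRoot.val_terms hπ hV q hq0 x hxq c hc
      rw [hm] at hle
      have h := (hall i).trans hle
      rcases eq_or_ne (c i) 0 with h0 | h0
      · exact ⟨0, by rw [h0, map_zero]⟩
      rw [← val_mem_range A π hπ hV]
      obtain ⟨l, hl⟩ := val_exponent A π hπ hV h0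
      have hs0 : 0 < V.valuation x := zero_lt_iff.2 fun h ↦ by
        rw [h, zero_pow hq0.ne'] at hxq
        exact (val_pos A π hπ hV).ne hxq
      rw [map_mul, map_pow, hl, ← hxq, ← zpow_natCast _ q, ← zpow_mul, ← zpow_natCast, ← zpow_add₀ hs0.ne'] at h
      have hl0 : 0 ≤ l := by
        by_contra hneg
        push Not at hneg
        have hlt : (q : ℤ) * l + (i : ℕ) < 0 := by
          have h1 : (q : ℤ) * l ≤ (q : ℤ) * (-1) := mul_le_mul_of_nonneg_left (by omega) (by positivity)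
          have h2 := i.2
          omega
        exact absurd (one_lt_zpow_of_neg₀ hs0 hx1 hlt) (not_lt.2 h)
      rw [hl]
      lift l to ℕ using hl0
      rw [zpow_natCast]
      exact pow_le_one₀ zero_le (val_lt_one A π hπ hV).le
    · obtain ⟨a, ha⟩ := h i
      rw [map_mul, map_pow, ← ha]
      exact mul_le_one' ((V.valuation_le_one_iff _).2 (hV.1 a)) (pow_le_one₀ zero_le hx1.le)
  refine ⟨⟨exists_dominates (K := K) (L := F) A, fun V V' hV hV' ↦ ?_, fun V hV r ↦ ?_⟩, fun V hV y hy ↦ ?_⟩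
  · ext y
    obtain ⟨c, rfl⟩ := hcoef y
    rw [← V.valuation_le_one_iff, ← V'.valuation_le_one_iff, hint V hV c, hint V' hV' c]
  · obtain ⟨⟨y, hy⟩, rfl⟩ := IsLocalRing.residue_surjective r
    obtain ⟨c, rfl⟩ := hcoef y
    have hc := (hint V hV c).1 ((V.valuation_le_one_iff _).2 hy)
    obtain ⟨hx1, -⟩ := DegPRoot.val_root hπ hV q hq j x hx
    obtain ⟨a₀, ha₀⟩ := hc ⟨0, hq0⟩
    refine ⟨a₀, ?_⟩
    rw [← sub_eq_zero]
    simp only [← map_sub]
    rw [IsLocalRing.residue_eq_zero_iff]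
    refine (V.valuation_lt_one_iff _).2 ?_
    change V.valuation (algebraMap K F (algebraMap A K a₀) - ∑ i : Fin q, algebraMap K F (c i) * x ^ (i : ℕ)) < 1
    rw [Finset.sum_eq_add_sum_sdiff_singleton_of_mem (Finset.mem_univ (⟨0, hq0⟩ : Fin q)), ha₀]
    simp only [pow_zero, mul_one, sub_add_cancel_left, Valuation.map_neg]
    refine Valuation.map_sum_lt _ one_ne_zero fun i hi ↦ ?_
    rw [Finset.mem_sdiff, Finset.mem_singleton] at hi
    have hi0 : (i : ℕ) ≠ 0 := fun h0 ↦ hi.2 (Fin.ext h0)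
    obtain ⟨a, ha⟩ := hc i
    rw [mul_comm, map_mul, map_pow, ← ha]
    exact mul_lt_one_of_lt_of_le (pow_lt_one₀ zero_le hx1 hi0) ((V.valuation_le_one_iff _).2 (hV.1 a))
  · obtain ⟨hx1, hxq⟩ := DegPRoot.val_root hπ hV q hq j x hx
    have hs0 : 0 < V.valuation x := zero_lt_iff.2 fun h ↦ by
      rw [h, zero_pow hq0.ne'] at hxq
      exact (val_pos A π hπ hV).ne hxq
    obtain ⟨c, hc⟩ := hcoef (y : F)
    rw [hc] at hy ⊢
    rcases eq_or_ne c 0 with rfl | hc0
    · simp
    obtain ⟨k, m, -, hm, -, -⟩ := DegPRoot.val_terms hπ hV q hq0 x hxq c hc0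
    rw [hm] at hy ⊢
    have hm0 : 0 < m := by
      by_contra hm0
      push Not at hm0
      exact absurd (one_le_zpow_of_nonpos₀ hs0 hx1.le hm0) (not_le.2 hy)
    conv_rhs => rw [← zpow_one (V.valuation x)]
    exact zpow_le_zpow_right_of_le_one₀ hs0 hx1.le hm0

omit [IsFractionRing A K] in
/-- towers of totally ramified extensions -/
theorem tr_trans {G : Type u} [Field G] [Algebra K G] [Algebra F G] [IsScalarTower K F G]
    (h₁ : EtRam.IsTotallyRamified A ((algebraMap K F).comp (algebraMap A K)))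
    (h₂ : ∀ V₁ : ValuationSubring F, EtRam.Dominates A ((algebraMap K F).comp (algebraMap A K)) V₁ →
      EtRam.IsTotallyRamified V₁ ((algebraMap F G).comp V₁.subtype)) :
    EtRam.IsTotallyRamified A ((algebraMap K G).comp (algebraMap A K)) := by
  have htow : ∀ a : A, algebraMap K G (algebraMap A K a) = algebraMap F G (algebraMap K F (algebraMap A K a)) :=
    fun a ↦ IsScalarTower.algebraMap_apply K F G _
  refine ⟨?_, fun V V' hV hV' ↦ ?_, fun V hV r ↦ ?_⟩
  · obtain ⟨V₁, hV₁⟩ := h₁.1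
    obtain ⟨V, hV⟩ := (h₂ V₁ hV₁).1
    refine ⟨V, fun a ↦ ?_, fun a ha ↦ ?_⟩
    · change algebraMap K G (algebraMap A K a) ∈ V
      rw [htow]
      exact hV.1 ⟨_, hV₁.1 a⟩
    · change V.valuation (algebraMap K G (algebraMap A K a)) < 1
      rw [htow]
      exact hV.2 ⟨_, hV₁.1 a⟩ ((V₁.valuation_lt_one_iff _).2 (hV₁.2 a ha))
  · obtain ⟨hd, hd₁⟩ := ValTower.dominates_tower A K F G V hV
    obtain ⟨hd', hd₁'⟩ := ValTower.dominates_tower A K F G V' hV'
    have heq := h₁.2.1 _ _ hd' hd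
    refine (h₂ _ hd).2.1 V V' hd₁ ⟨fun a ↦ ?_, fun a ha ↦ ?_⟩
    · have ha : (a : F) ∈ V'.comap (algebraMap F G) := by rw [heq]; exact a.2
      exact hd₁'.1 ⟨a, ha⟩
    · have hlt : ∀ W : ValuationSubring F, W = V.comap (algebraMap F G) → ∀ hW : (a : F) ∈ W,
          (⟨a, hW⟩ : W) ∈ IsLocalRing.maximalIdeal W := by
        rintro W rfl hW
        exact ha
      exact hd₁'.2 _ (hlt _ heq (by rw [heq]; exact a.2))
  · obtain ⟨hd, hd₁⟩ := ValTower.dominates_tower A K F G V hV
    obtain ⟨a₁, ha₁⟩ := (h₂ _ hd).2.2 V hd₁ r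
    obtain ⟨a, ha⟩ := h₁.2.2 _ hd (IsLocalRing.residue _ a₁)
    refine ⟨a, ?_⟩
    rw [← ha₁]
    dsimp only at ha ⊢
    rw [← sub_eq_zero, ← map_sub, IsLocalRing.residue_eq_zero_iff] at ha ⊢
    refine (V.valuation_lt_one_iff _).2 ?_
    have h := hd₁.2 _ ha
    change V.valuation (algebraMap F G (algebraMap K F (algebraMap A K a) - (a₁ : F))) < 1 at h
    change V.valuation (algebraMap K G (algebraMap A K a) - algebraMap F G (a₁ : F)) < 1
    rw [map_sub] at h
    rw [htow]
    exact h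

end Groth.Agent.EtRamLib.AS.RootTR
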