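import Mathlib
import Groth.Agent.S7158
import Groth.Agent.EtRamLib.Solution
import Groth.Agent.EtRamLib.DegPRoot
import Groth.Agent.EtRamLib.AS.Data

/-!
# The weak solution for an Artin–Schreier extension
-/

set_option autoImplicit false
universe u

open IntermediateField
open scoped Classical

namespace Groth.Agent.EtRamLib.AS.Solve

open Groth.Agent.S7158 (val_unit val_lt_one val_pos)

theorem level_injective {p M : ℕ} (hp : p.Prime) (m : ℕ → ℕ) {i i' : ℕ}
    (hi : p ∣ i → m i = 0) (hi' : p ∣ i' → m i' = 0) (hm : m i ≤ M) (hm' : m i' ≤ M)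
    (h : i * p ^ (M - m i) = i' * p ^ (M - m i')) : i = i' := by
  have key : ∀ a b : ℕ, (p ∣ a → m a = 0) → m a ≤ M → m b ≤ M → a * p ^ (M - m a) = b * p ^ (M - m b) →
      m b < m a → False := by
    intro a b ha hma hmb hab hlt
    have h1 : M - m b = M - m a + (m a - m b) := by omega
    rw [h1, pow_add, mul_left_comm, mul_comm a] at hab
    have h2 := Nat.eq_of_mul_eq_mul_left (pow_pos hp.pos _) hab
    have h3 : p ∣ a := h2 ▸ dvd_mul_of_dvd_right (dvd_pow_self _ (by omega)) b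
    have := ha h3
    omega
  rcases lt_trichotomy (m i) (m i') with hlt | heq | hlt
  · exact (key i' i hi' hm' hm h.symm hlt).elim
  · rw [heq] at h
    exact Nat.eq_of_mul_eq_mul_right (pow_pos hp.pos _) h
  · exact (key i i' hi hm hm' h hlt).elim

theorem weakSolution {A B C K L M : Type u} [CommRing A] [IsDomain A] [IsDiscreteValuationRing A]
    [CommRing B] [IsDomain B] [IsDiscreteValuationRing B] [CommRing C] [IsDomain C] [IsDiscreteValuationRing C]
    [Algebra A B] [IsLocalHom (algebraMap A B)] [Algebra B C] [IsLocalHom (algebraMap B C)]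
    [Field K] [Field L] [Field M] [Algebra A K] [IsFractionRing A K] [Algebra B L] [IsFractionRing B L]
    [Algebra C M] [IsFractionRing C M] [Algebra K L] [Algebra L M] [Algebra K M] [IsScalarTower K L M]
    [Algebra A L] [IsScalarTower A K L] [IsScalarTower A B L] [Algebra B M] [IsScalarTower B L M]
    [IsScalarTower B C M] [FiniteDimensional L M] (p : ℕ) [hp : Fact p.Prime] [CharP K p]
    (π : A) (hπB : IsLocalRing.maximalIdeal B = Ideal.span {algebraMap A B π})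
    (hw : EtRam.IsWeaklyUnramified A B)
    (z : M) (ξ : L) (hz : z ^ p - z = algebraMap L M ξ) (hzgen : L⟮z⟯ = ⊤)
    (S : Finset ℕ) (m : ℕ → ℕ) (s : ℕ → B) (aK : K) (b : B) (g : L) (hS0 : 0 ∉ S)
    (hS : ∀ i ∈ S, (∀ r : B, IsLocalRing.residue B (s i) ≠ IsLocalRing.residue B r ^ p) ∧ (p ∣ i → m i = 0))
    (hξ : ξ = algebraMap K L aK + ∑ i ∈ S, algebraMap B L (s i) ^ p ^ m i / algebraMap A L π ^ i +
        algebraMap B L b + (g ^ p - g))
    (M₁ : ℕ) (hM₁ : ∀ i ∈ S, m i < M₁) (hM₁0 : 0 < M₁)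
    (S' : Finset ℕ) (bK : ℕ → A) (a' : A) (gK : K)
    (hξK : aK = ∑ i ∈ S', algebraMap A K (bK i) ^ p ^ M₁ / algebraMap A K π ^ i + algebraMap A K a' + (gK ^ p - gK))
    (j : ℕ) (hjS : ∀ i ∈ S, i ≤ j) (hjS' : ∀ i ∈ S', i ≤ j)
    (K₂ : Type u) [Field K₂] [Algebra K K₂] [FiniteDimensional K K₂]
    (hT : EtRam.IsTotallyRamified A ((algebraMap K K₂).comp (algebraMap A K)))
    (x z₀ : K₂) (hx : x ^ p ^ M₁ = algebraMap K K₂ (algebraMap A K π) - algebraMap K K₂ (algebraMap A K π) ^ (j + 1) * x)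
    (hz₀ : z₀ ^ p - z₀ = ∑ i ∈ S', algebraMap K K₂ (algebraMap A K (bK i)) / x ^ i) :
    EtRam.IsWeakSolution C K M K₂ := by
  intro F _ _ _ _ _ _ hgen W hW
  letI : Algebra L F := ((algebraMap M F).comp (algebraMap L M)).toAlgebra
  haveI : IsScalarTower L M F := IsScalarTower.of_algebraMap_eq fun _ ↦ rfl
  haveI : IsScalarTower K L F := IsScalarTower.of_algebraMap_eq fun k ↦ by
    rw [RingHom.algebraMap_toAlgebra, RingHom.comp_apply, ← IsScalarTower.algebraMap_apply K L M,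
      ← IsScalarTower.algebraMap_apply K M F]
  haveI : CharP L p := charP_of_injective_algebraMap (algebraMap K L).injective p
  haveI : CharP F p := charP_of_injective_algebraMap (algebraMap L F).injective p
  haveI : FiniteDimensional M F := Module.Finite.of_surjective
    (Algebra.TensorProduct.lift (Algebra.ofId M F) (IsScalarTower.toAlgHom K K₂ F)
      fun _ _ ↦ Commute.all _ _).toLinearMap (Solution.surjective_lift K M K₂ F hgen)
  haveI : FiniteDimensional L F := Module.Finite.trans M F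
  set gB : B →+* F := (algebraMap L F).comp (algebraMap B L) with hgB
  have hWB : EtRam.Dominates B gB W := by
    rw [hgB, IsScalarTower.algebraMap_eq L M F, RingHom.comp_assoc, ← IsScalarTower.algebraMap_eq B L M,
      IsScalarTower.algebraMap_eq B C M, ← RingHom.comp_assoc]
    exact ⟨fun b ↦ hW.1 _, fun b hb ↦ hW.2 _ (map_nonunit (algebraMap B C) b hb)⟩
  set v := W.valuation with hv
  have hAF : ∀ a : A, algebraMap K F (algebraMap A K a) = gB (algebraMap A B a) := fun a ↦ by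
    rw [hgB, RingHom.comp_apply, ← IsScalarTower.algebraMap_apply A B L, IsScalarTower.algebraMap_apply A K L,
      ← IsScalarTower.algebraMap_apply K L F]
  set P := gB (algebraMap A B π) with hP
  have hPv0 : 0 < v P := val_pos B _ hπB hWB
  have hPv1 : v P < 1 := val_lt_one B _ hπB hWB
  have hP0 : P ≠ 0 := fun h ↦ by rw [h, map_zero] at hPv0; exact lt_irrefl _ hPv0
  have hg1 : ∀ r : B, v (gB r) ≤ 1 := fun r ↦ (W.valuation_le_one_iff _).2 (hWB.1 r)
  set X := algebraMap K₂ F x with hX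
  have hXq : X ^ p ^ M₁ = P - P ^ (j + 1) * X := by
    rw [hX, ← map_pow, hx, map_sub, map_mul, map_pow, ← IsScalarTower.algebraMap_apply, hAF]
  have hq1 : 1 < p ^ M₁ := Nat.one_lt_pow hM₁0.ne' hp.out.one_lt
  obtain ⟨hX1, hXv⟩ := DegPRoot.val_root hπB hWB (p ^ M₁) hq1 j X hXq
  have hX0 : X ≠ 0 := fun h ↦ by
    rw [h, map_zero, zero_pow (by omega)] at hXv
    exact hPv0.ne hXv
  -- powers of `π` against powers of `x`
  set ε : F := 1 - P ^ j * X with hε
  have hXε : X ^ p ^ M₁ = P * ε := by rw [hXq, hε, pow_succ]; ring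
  have hPjX : v (P ^ j * X) < 1 := by
    rw [map_mul, mul_comm]
    exact mul_lt_one_of_lt_of_le hX1 (by rw [map_pow]; exact pow_le_one₀ zero_le hPv1.le)
  have hε1 : v ε = 1 := Valuation.map_one_sub_of_lt v hPjX
  have hε0 : ε ≠ 0 := fun h ↦ by rw [h, map_zero] at hε1; exact zero_ne_one hε1
  have hclose : ∀ i ≤ j, v (1 / P ^ i - 1 / (X ^ p ^ M₁) ^ i) ≤ 1 := by
    intro i hi
    have heq : 1 / P ^ i - 1 / (X ^ p ^ M₁) ^ i = (ε ^ i - 1) / (P ^ i * ε ^ i) := by
      rw [hXε, mul_pow, div_sub_div _ _ (pow_ne_zero _ hP0) (mul_ne_zero (pow_ne_zero _ hP0) (pow_ne_zero _ hε0))]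
      rw [div_eq_div_iff (mul_ne_zero (pow_ne_zero _ hP0) (mul_ne_zero (pow_ne_zero _ hP0) (pow_ne_zero _ hε0)))
        (mul_ne_zero (pow_ne_zero _ hP0) (pow_ne_zero _ hε0))]
      ring
    rw [heq, map_div₀, map_mul, map_pow, map_pow v ε, hε1, one_pow, mul_one, div_le_one₀ (pow_pos hPv0 i)]
    rw [← geom_sum_mul ε i, map_mul]
    refine (mul_le_of_le_one_left' (Valuation.map_sum_le _ fun k _ ↦ by rw [map_pow, hε1, one_pow])).trans ?_
    rw [hε, Valuation.map_sub_swap, sub_sub_cancel, map_mul, map_pow]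
    exact (mul_le_of_le_one_right' hX1.le).trans (pow_le_pow_right_of_le_one' hPv1.le hi)
  -- the reduced element
  set ys : ℕ → F := fun i ↦ gB (s i) / X ^ (i * p ^ (M₁ - m i)) with hys
  set yK : ℕ → F := fun i ↦ algebraMap K F (algebraMap A K (bK i)) / X ^ i with hyK
  set Φ : ℕ → F → F := fun k y ↦ ∑ t ∈ Finset.range k, y ^ p ^ t with hΦ
  set Z₀ := algebraMap K₂ F z₀ with hZ₀
  set T : F := algebraMap L F g + algebraMap K F gK + ∑ i ∈ S, Φ (m i) (ys i) + ∑ i ∈ S', Φ M₁ (yK i) + Z₀ with hT'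
  set z' : F := algebraMap M F z - T with hz'
  set w₀ : F := gB b + algebraMap K F (algebraMap A K a') +
      ∑ i ∈ S, gB (s i) ^ p ^ m i * (1 / P ^ i - 1 / (X ^ p ^ M₁) ^ i) +
      ∑ i ∈ S', algebraMap K F (algebraMap A K (bK i)) ^ p ^ M₁ * (1 / P ^ i - 1 / (X ^ p ^ M₁) ^ i) with hw₀
  have hw₀1 : v w₀ ≤ 1 := by
    refine (v.map_add _ _).trans (max_le ((v.map_add _ _).trans (max_le ((v.map_add _ _).trans (max_le (hg1 b) ?_))
      (Valuation.map_sum_le _ fun i hi ↦ ?_))) (Valuation.map_sum_le _ fun i hi ↦ ?_))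
    · rw [hAF]; exact hg1 _
    · rw [map_mul, map_pow]; exact mul_le_one' (pow_le_one₀ zero_le (hg1 _)) (hclose i (hjS i hi))
    · rw [map_mul, map_pow, hAF]; exact mul_le_one' (pow_le_one₀ zero_le (hg1 _)) (hclose i (hjS' i hi))
  have hz'eq : z' ^ p - z' = w₀ + ∑ i ∈ S, ys i := by
    have h1 : algebraMap M F z ^ p - algebraMap M F z = algebraMap L F ξ := by
      rw [← map_pow, ← map_sub, hz, ← IsScalarTower.algebraMap_apply]
    have h2 : algebraMap L F ξ = (∑ i ∈ S', algebraMap K F (algebraMap A K (bK i)) ^ p ^ M₁ / P ^ i) +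
        algebraMap K F (algebraMap A K a') + (algebraMap K F gK ^ p - algebraMap K F gK) +
        ∑ i ∈ S, gB (s i) ^ p ^ m i / P ^ i + gB b + (algebraMap L F g ^ p - algebraMap L F g) := by
      rw [hξ, hξK]
      simp only [map_add, map_sum, map_sub, map_pow, map_div₀]
      simp only [← IsScalarTower.algebraMap_apply K L F, IsScalarTower.algebraMap_apply A K L π, hAF π, ← hP]
      rfl
    have hys' : ∀ i ∈ S, ys i ^ p ^ m i = gB (s i) ^ p ^ m i / (X ^ p ^ M₁) ^ i := fun i hi ↦ by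
      rw [hys, div_pow, ← pow_mul, ← pow_mul, mul_assoc, ← pow_add, Nat.sub_add_cancel (hM₁ i hi).le, mul_comm i]
    have hyK' : ∀ i ∈ S', yK i ^ p ^ M₁ = algebraMap K F (algebraMap A K (bK i)) ^ p ^ M₁ / (X ^ p ^ M₁) ^ i :=
      fun i hi ↦ by rw [hyK, div_pow, ← pow_mul, ← pow_mul, mul_comm i]
    have hZ : Z₀ ^ p - Z₀ = ∑ i ∈ S', yK i := by
      rw [hZ₀, ← map_pow, ← map_sub, hz₀, map_sum]
      refine Finset.sum_congr rfl fun i _ ↦ ?_
      rw [map_div₀, map_pow, ← IsScalarTower.algebraMap_apply]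
    have hTp : T ^ p - T = (algebraMap L F g ^ p - algebraMap L F g) + (algebraMap K F gK ^ p - algebraMap K F gK) +
        ∑ i ∈ S, (gB (s i) ^ p ^ m i / (X ^ p ^ M₁) ^ i - ys i) +
        ∑ i ∈ S', (algebraMap K F (algebraMap A K (bK i)) ^ p ^ M₁ / (X ^ p ^ M₁) ^ i - yK i) + ∑ i ∈ S', yK i := by
      rw [← hZ, Finset.sum_congr rfl fun i hi ↦ show gB (s i) ^ p ^ m i / (X ^ p ^ M₁) ^ i - ys i =
          Φ (m i) (ys i) ^ p - Φ (m i) (ys i) by rw [← hys' i hi]; exact (Data.telescope p _ _).symm,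
        Finset.sum_congr rfl fun i hi ↦ show algebraMap K F (algebraMap A K (bK i)) ^ p ^ M₁ / (X ^ p ^ M₁) ^ i - yK i =
          Φ M₁ (yK i) ^ p - Φ M₁ (yK i) by rw [← hyK' i hi]; exact (Data.telescope p _ _).symm,
        hT', add_pow_char, add_pow_char, add_pow_char, add_pow_char, sum_pow_char, sum_pow_char,
        Finset.sum_sub_distrib, Finset.sum_sub_distrib]
      ring
    have hsplit : ∀ (c : ℕ → F) (T' : Finset ℕ), ∑ i ∈ T', c i * (1 / P ^ i - 1 / (X ^ p ^ M₁) ^ i) =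
        ∑ i ∈ T', c i / P ^ i - ∑ i ∈ T', c i / (X ^ p ^ M₁) ^ i := fun c T' ↦ by
      rw [← Finset.sum_sub_distrib]
      refine Finset.sum_congr rfl fun i _ ↦ ?_
      ring
    rw [Finset.sum_sub_distrib, Finset.sum_sub_distrib] at hTp
    rw [hz', sub_pow_char, hw₀, hsplit, hsplit]
    linear_combination h1 + h2 - hTp
  -- the intermediate field
  set L₂ : IntermediateField L F := adjoin L (Set.range (algebraMap K₂ F)) with hL₂
  have hK₂mem : ∀ y : K₂, algebraMap K₂ F y ∈ L₂ := fun y ↦ subset_adjoin L _ ⟨y, rfl⟩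
  have hKmem : ∀ k : K, algebraMap K F k ∈ L₂ := fun k ↦ by
    rw [IsScalarTower.algebraMap_apply K L F]; exact L₂.algebraMap_mem _
  have hgmem : ∀ r : B, gB r ∈ L₂ := fun r ↦ L₂.algebraMap_mem _
  have hXmem : X ∈ L₂ := hK₂mem x
  have hysmem : ∀ i, ys i ∈ L₂ := fun i ↦ div_mem (hgmem _) (pow_mem hXmem _)
  have hyKmem : ∀ i, yK i ∈ L₂ := fun i ↦ div_mem (hKmem _) (pow_mem hXmem _)
  have hTmem : T ∈ L₂ :=
    add_mem (add_mem (add_mem (add_mem (L₂.algebraMap_mem g) (hKmem gK))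
      (sum_mem fun i _ ↦ sum_mem fun t _ ↦ pow_mem (hysmem i) _))
      (sum_mem fun i _ ↦ sum_mem fun t _ ↦ pow_mem (hyKmem i) _)) (hK₂mem z₀)
  have hwmem : w₀ + ∑ i ∈ S, ys i ∈ L₂ := by
    refine add_mem (add_mem (add_mem (add_mem (hgmem b) (hKmem _)) (sum_mem fun i _ ↦ ?_)) (sum_mem fun i _ ↦ ?_))
      (sum_mem fun i _ ↦ hysmem i)
    · exact mul_mem (pow_mem (hgmem _) _) (sub_mem (div_mem (one_mem _) (pow_mem (hgmem _) _))
        (div_mem (one_mem _) (pow_mem (pow_mem hXmem _) _)))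
    · exact mul_mem (pow_mem (hKmem _) _) (sub_mem (div_mem (one_mem _) (pow_mem (hgmem _) _))
        (div_mem (one_mem _) (pow_mem (pow_mem hXmem _) _)))
  set η : L₂ := ⟨_, hwmem⟩ with hη
  have hz'η : z' ^ p - z' = algebraMap L₂ F η := hz'eq
  have hz'gen : L₂⟮z'⟯ = ⊤ := by
    set E : IntermediateField L F := L₂⟮z'⟯.restrictScalars L
    have hL₂E : ∀ y : F, y ∈ L₂ → y ∈ E := fun y hy ↦ L₂⟮z'⟯.algebraMap_mem ⟨y, hy⟩
    have hzE : algebraMap M F z ∈ E := by
      have : algebraMap M F z = z' + T := by rw [hz', sub_add_cancel]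
      rw [this]
      exact add_mem (mem_adjoin_simple_self L₂ z') (hL₂E _ hTmem)
    have hM : ∀ y : M, algebraMap M F y ∈ E.toSubfield := by
      intro y
      have h1 : L⟮z⟯ ≤ E.comap (IsScalarTower.toAlgHom L M F) := adjoin_simple_le_iff.2 hzE
      rw [hzgen] at h1
      exact h1 (x := y) mem_top
    have h1 : Algebra.adjoin M (Set.range (algebraMap K₂ F)) ≤ (E.toSubfield.toIntermediateField hM).toSubalgebra :=
      Algebra.adjoin_le (by rintro _ ⟨y, rfl⟩; exact hL₂E _ (hK₂mem y))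
    rw [hgen] at h1
    rw [eq_top_iff]
    intro y _
    exact h1 (x := y) Algebra.mem_top
  letI : Algebra K₂ L₂ := ((algebraMap K₂ F).codRestrict L₂ hK₂mem).toAlgebra
  haveI : IsScalarTower K L L₂ := IsScalarTower.of_algebraMap_eq fun k ↦ Subtype.ext
    (IsScalarTower.algebraMap_apply K L F k)
  haveI : IsScalarTower K K₂ L₂ := IsScalarTower.of_algebraMap_eq fun k ↦ Subtype.ext
    (IsScalarTower.algebraMap_apply K K₂ F k)
  have hgen₂ : Algebra.adjoin L (Set.range (algebraMap K₂ L₂)) = ⊤ := by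
    refine Subalgebra.map_injective (f := L₂.val) L₂.val.injective ?_
    rw [AlgHom.map_adjoin, Algebra.map_top]
    have : L₂.val '' Set.range (algebraMap K₂ L₂) = Set.range (algebraMap K₂ F) := by
      rw [← Set.range_comp]; rfl
    rw [this, ← adjoin_toSubalgebra_of_isAlgebraic (fun y _ ↦ Algebra.IsAlgebraic.isAlgebraic y)]
    exact (IntermediateField.range_val L₂).symm
  obtain ⟨hW₂, hW₂W⟩ := ValTower.dominates_tower B L L₂ F W hWB
  set W₂ := W.comap (algebraMap L₂ F)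
  obtain ⟨hwu, -, hsurj⟩ := Solution.main' A B K L K₂ L₂ hw hgen₂ W₂ hW₂ (Or.inr hT)
  have hres := hsurj hT
  haveI : IsDiscreteValuationRing W₂ := Solution.isDVR B L L₂ W₂ hW₂
  obtain ⟨hA₂, -⟩ := ValTower.dominates_tower A K K₂ F W (by
    refine ⟨fun a ↦ ?_, fun a ha ↦ ?_⟩
    · change algebraMap K F (algebraMap A K a) ∈ W
      rw [hAF]; exact hWB.1 _
    · change v (algebraMap K F (algebraMap A K a)) < 1
      rw [hAF]; exact hWB.2 _ (map_nonunit (algebraMap A B) a ha))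
  set A₂ := W₂.comap (algebraMap K₂ L₂)
  haveI : IsDiscreteValuationRing A₂ := Solution.isDVR A K K₂ A₂ hA₂
  obtain ⟨ϖ, hϖ⟩ := IsDiscreteValuationRing.exists_irreducible A₂
  set ϖ₂ : W₂ := EtRam.inclOfComap W₂ (algebraMap K₂ L₂) ϖ with hϖ₂
  have hϖ₂max : IsLocalRing.maximalIdeal W₂ = Ideal.span {ϖ₂} := by
    rw [← hwu, hϖ.maximalIdeal_eq, Ideal.map_span, Set.image_singleton]
    rfl
  set ϖF := algebraMap L₂ F ϖ₂ with hϖF
  have hϖF1 : v ϖF < 1 := hW₂W.2 ϖ₂ (hϖ₂max ▸ Ideal.mem_span_singleton_self ϖ₂)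
  haveI : CharP L₂ p := charP_of_injective_algebraMap (algebraMap L L₂).injective p
  -- the top step is weakly unramified
  letI : Algebra W₂ W := (RingHom.codRestrict ((algebraMap L₂ F).comp W₂.subtype) W hW₂W.1).toAlgebra
  haveI : IsLocalHom (algebraMap W₂ W) := ValTower.isLocalHom_of_dominates W hW₂W
  have htop : EtRam.IsWeaklyUnramified W₂ W := by
    rcases S.eq_empty_or_nonempty with hSe | hSne
    · have hηW : η ∈ W₂ := by
        change w₀ + ∑ i ∈ S, ys i ∈ W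
        rw [hSe, Finset.sum_empty, add_zero]
        exact (W.valuation_le_one_iff _).1 hw₀1
      have h := Groth.Agent.S7158.unramified_AS p hp.out W₂ (⟨η, hηW⟩ : W₂) η rfl z' hz'η hz'gen
      exact (@h W hW₂W (ValTower.isLocalHom_of_dominates W hW₂W)).1
    obtain ⟨i₀, hi₀, hmax⟩ := S.exists_max_image (fun i ↦ i * p ^ (M₁ - m i)) hSne
    set l₀ := i₀ * p ^ (M₁ - m i₀) with hl₀
    have hi₀0 : 0 < i₀ := Nat.pos_of_ne_zero fun h ↦ hS0 (h ▸ hi₀)
    have hl₀0 : 0 < l₀ := Nat.mul_pos hi₀0 (pow_pos hp.out.pos _)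
    have hlt : ∀ i ∈ S, i ≠ i₀ → i * p ^ (M₁ - m i) < l₀ := fun i hi hne ↦
      lt_of_le_of_ne (hmax i hi) fun he ↦ hne (level_injective hp.out m (hS i hi).2 (hS i₀ hi₀).2 (hM₁ i hi).le
        (hM₁ i₀ hi₀).le he)
    obtain ⟨c, hc⟩ : p ∣ l₀ :=
      dvd_mul_of_dvd_right (dvd_pow_self p (by have := hM₁ i₀ hi₀; omega : M₁ - m i₀ ≠ 0)) _
    have hlead : v ((w₀ + ∑ i ∈ S, ys i) * X ^ l₀ - gB (s i₀)) < 1 := by
      have key : ∀ w y r t u : F, y * t = u → (w + (y + r)) * t - u = w * t + r * t := by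
        rintro w y r t _ rfl; ring
      have hy₀ : ys i₀ * X ^ l₀ = gB (s i₀) := div_mul_cancel₀ _ (pow_ne_zero _ hX0)
      rw [← Finset.add_sum_erase _ _ hi₀, key _ _ _ _ _ hy₀]
      refine Valuation.map_add_lt _ ?_ ?_
      · rw [mul_comm, map_mul, map_pow]
        exact mul_lt_one_of_lt_of_le (pow_lt_one₀ zero_le hX1 hl₀0.ne') hw₀1
      · rw [Finset.sum_mul]
        refine Valuation.map_sum_lt _ one_ne_zero fun i hi ↦ ?_
        have hli := hlt i (Finset.mem_of_mem_erase hi) (Finset.ne_of_mem_erase hi)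
        simp only [hys]
        rw [div_mul_eq_mul_div, mul_div_assoc, div_eq_mul_inv, ← pow_sub₀ X hX0 hli.le, mul_comm, map_mul, map_pow]
        exact mul_lt_one_of_lt_of_le (pow_lt_one₀ zero_le hX1 (by omega)) (hg1 _)
    have hxA₂ : x ∈ A₂ := (W.valuation_le_one_iff _).1 hX1.le
    have hxA₂0 : (⟨x, hxA₂⟩ : A₂) ≠ 0 := fun h ↦ hX0 (by
      rw [hX, show x = 0 from congrArg Subtype.val h, map_zero])
    obtain ⟨e, α, hα⟩ := IsDiscreteValuationRing.eq_unit_mul_pow_irreducible hxA₂0 hϖ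
    set α₂ : W₂ := EtRam.inclOfComap W₂ (algebraMap K₂ L₂) (α : A₂)
    set αF := algebraMap L₂ F α₂ with hαF
    have hXα : X = αF * ϖF ^ e := by
      have := congrArg (fun t : A₂ ↦ algebraMap K₂ F (t : K₂)) hα
      simp only [MulMemClass.coe_mul, SubmonoidClass.coe_pow, map_mul, map_pow] at this
      exact this
    have hα1 : v αF = 1 := (W.valuation_eq_one_iff (algebraMap W₂ W α₂)).1 ((α.isUnit.map _).map _)
    have he0 : 0 < e := Nat.pos_of_ne_zero fun h ↦ by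
      rw [hXα, h, pow_zero, mul_one, hα1] at hX1
      exact lt_irrefl _ hX1
    set a : F := (w₀ + ∑ i ∈ S, ys i) * ϖF ^ (e * l₀) with ha
    have haα : a * αF ^ l₀ = (w₀ + ∑ i ∈ S, ys i) * X ^ l₀ := by
      rw [ha, hXα, mul_pow, ← pow_mul]; ring
    have haW : v a ≤ 1 := by
      have h1 : v ((w₀ + ∑ i ∈ S, ys i) * X ^ l₀) ≤ 1 := by
        have h := v.map_add ((w₀ + ∑ i ∈ S, ys i) * X ^ l₀ - gB (s i₀)) (gB (s i₀))
        rw [sub_add_cancel] at h
        exact h.trans (max_le hlead.le (hg1 _))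
      rwa [← haα, map_mul, map_pow, hα1, one_pow, mul_one] at h1
    have hamem : a ∈ L₂ := mul_mem hwmem (pow_mem (ϖ₂ : L₂).2 _)
    set a₂ : W₂ := ⟨⟨a, hamem⟩, (W.valuation_le_one_iff _).1 haW⟩
    have hnp : ∀ r : W₂, IsLocalRing.residue W₂ a₂ ≠ IsLocalRing.residue W₂ r ^ p := by
      intro r hr
      rw [← map_pow, ← sub_eq_zero, ← map_sub, IsLocalRing.residue_eq_zero_iff] at hr
      have hr' : v (a - algebraMap L₂ F r ^ p) < 1 := hW₂W.2 _ hr
      obtain ⟨b', hb'⟩ := hres (IsLocalRing.residue W₂ (r * α₂ ^ c))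
      rw [← sub_eq_zero, ← map_sub, IsLocalRing.residue_eq_zero_iff] at hb'
      have hb'' : v (gB b' - algebraMap L₂ F r * αF ^ c) < 1 := hW₂W.2 _ hb'
      refine (hS i₀ hi₀).1 b' ?_
      rw [← sub_eq_zero, ← map_pow, ← map_sub, IsLocalRing.residue_eq_zero_iff]
      by_contra hu
      have hun : IsUnit (s i₀ - b' ^ p) := not_not.1 hu
      have h1 : v (gB (s i₀ - b' ^ p)) = 1 := val_unit B _ hπB hWB hun.unit
      have h2 : v (gB (s i₀ - b' ^ p)) < 1 := by
        have h3 : gB (s i₀ - b' ^ p) = -((w₀ + ∑ i ∈ S, ys i) * X ^ l₀ - gB (s i₀)) +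
            (a - algebraMap L₂ F r ^ p) * αF ^ l₀ - (gB b' - algebraMap L₂ F r * αF ^ c) ^ p := by
          rw [sub_pow_char, mul_pow, ← pow_mul, mul_comm c p, ← hc, ← haα, map_sub, map_pow]
          ring
        rw [h3]
        refine (Valuation.map_sub _ _ _).trans_lt (max_lt (Valuation.map_add_lt _ ?_ ?_) ?_)
        · rw [Valuation.map_neg]; exact hlead
        · rw [map_mul, map_pow v αF, hα1, one_pow, mul_one]; exact hr'
        · rw [map_pow]; exact pow_lt_one₀ zero_le hb'' hp.out.ne_zero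
      exact lt_irrefl _ (h1 ▸ h2)
    have h := Groth.Agent.S7158.inseparable_AS W₂ ϖ₂ hϖ₂max p hp.out η z' hz'η hz'gen (e * l₀) a₂
      (Nat.mul_pos he0 hl₀0) (dvd_mul_of_dvd_right (hc ▸ dvd_mul_right p c) e) hnp (Subtype.ext rfl) _ rfl
    have h3 := h.2.2
    exact (@h3 W hW₂W (ValTower.isLocalHom_of_dominates W hW₂W)).1
  -- conclusion
  letI : Algebra (W.comap (algebraMap K₂ F)) W := (EtRam.inclOfComap W (algebraMap K₂ F)).toAlgebra
  refine le_antisymm (Ideal.map_le_iff_le_comap.2 fun a ha ↦ ?_) fun y hy ↦ ?_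
  · exact map_nonunit (EtRam.inclOfComap W (algebraMap K₂ F)) a ha
  have hym : y ∈ (IsLocalRing.maximalIdeal W₂).map (algebraMap W₂ W) := (SetLike.ext_iff.1 htop y).2 hy
  rw [hϖ₂max, Ideal.map_span, Set.image_singleton, Ideal.mem_span_singleton] at hym
  obtain ⟨d, rfl⟩ := hym
  have hgW : (ϖ : K₂) ∈ W.comap (algebraMap K₂ F) := ϖ.2
  have hgm : (⟨(ϖ : K₂), hgW⟩ : W.comap (algebraMap K₂ F)) ∈ IsLocalRing.maximalIdeal _ := fun hu ↦
    ((W.valuation_lt_one_iff _).2 hϖF1 :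
      EtRam.inclOfComap W (algebraMap K₂ F) ⟨(ϖ : K₂), hgW⟩ ∈ IsLocalRing.maximalIdeal W) (hu.map _)
  exact Ideal.mul_mem_right d _ (Ideal.mem_map_of_mem _ hgm)

end Groth.Agent.EtRamLib.AS.Solve
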